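import Groth.Agent.Comod.Reductive
import Groth.Prelude.Def_CoactBr

/-!
# Conjugation of the universal pair of points
-/

universe u
open TensorProduct Matrix CategoryTheory MonoidalCategory CartesianMonoidalCategory AlgebraicGeometry Opposite
open scoped MonObj

noncomputable section

namespace Groth.Agent.ClassFn

attribute [local instance] CoactBr.braidedAlgSpecOf

variable {k : Type u} [Field k] {A : Type u} [CommRing A] [HopfAlgebra k A]

/-- The conjugate of the second universal point by the first. -/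
def conjHom : A →ₐ[k] A ⊗[k] A :=
  let x : A →ₐ[k] A ⊗[k] A := Algebra.TensorProduct.includeLeft
  let g : A →ₐ[k] A ⊗[k] A := Algebra.TensorProduct.includeRight
  let xg : A →ₐ[k] A ⊗[k] A :=
    (Algebra.TensorProduct.lift x g fun _ _ => .all _ _).comp (Bialgebra.comulAlgHom k A)
  (Algebra.TensorProduct.lift xg (x.comp (HopfAlgebra.antipodeAlgHom k A)) fun _ _ => .all _ _).comp
    (Bialgebra.comulAlgHom k A)

theorem map_conv {n : Type} [Fintype n] [DecidableEq n] {M : Matrix n n A}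
    (hM : Comod.IsCorep (k := k) M) {B : Type u} [CommRing B] [Algebra k B] (x y : A →ₐ[k] B) :
    M.map ((Algebra.TensorProduct.lift x y fun _ _ => .all _ _).comp (Bialgebra.comulAlgHom k A)) =
      M.map x * M.map y := by
  set L := Algebra.TensorProduct.lift x y fun _ _ => Commute.all _ _
  rw [AlgHom.coe_comp, ← Matrix.map_map, hM.map_comul, Matrix.map_mul, Matrix.map_map, Matrix.map_map]
  congr 1 <;> congr 1 <;> ext a <;> simp [L]

theorem map_conjHom {n : Type} [Fintype n] [DecidableEq n] {M : Matrix n n A}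
    (hM : Comod.IsCorep (k := k) M) :
    M.map (conjHom (k := k) (A := A)) =
      M.map (Algebra.TensorProduct.includeLeft : A →ₐ[k] A ⊗[k] A) *
        M.map (Algebra.TensorProduct.includeRight : A →ₐ[k] A ⊗[k] A) *
        (M.map (HopfAlgebra.antipodeAlgHom k A)).map
          (Algebra.TensorProduct.includeLeft : A →ₐ[k] A ⊗[k] A) := by
  rw [conjHom, map_conv hM, map_conv hM, Matrix.map_map]
  rfl

theorem pt_conjHom :
    CoactBr.pt (conjHom (k := k) (A := A)) =
      CoactBr.pt (Algebra.TensorProduct.includeLeft : A →ₐ[k] A ⊗[k] A) *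
        CoactBr.pt (Algebra.TensorProduct.includeRight : A →ₐ[k] A ⊗[k] A) *
        (CoactBr.pt (Algebra.TensorProduct.includeLeft : A →ₐ[k] A ⊗[k] A))⁻¹ := by
  rw [CoactBr.pt_inv, CoactBr.pt_mul_pt, CoactBr.pt_mul_pt]
  rfl

/-- The value of a function at a point. -/
def val {T : Over (Spec (CommRingCat.of k))} (x : T ⟶ CoactBr.sp k A) (f : A) : Γ(T.left, ⊤) :=
  x.left.appTop ((Scheme.ΓSpecIso (CommRingCat.of A)).inv f)

theorem val_comp_pt {B : Type u} [CommRing B] [Algebra k B] {T : Over (Spec (CommRingCat.of k))}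
    (t : T ⟶ CoactBr.sp k B) (φ : A →ₐ[k] B) (f : A) :
    val (t ≫ CoactBr.pt φ) f = t.left.appTop ((Scheme.ΓSpecIso (CommRingCat.of B)).inv (φ f)) := by
  unfold val
  rw [Over.comp_left, Scheme.Hom.comp_appTop, CoactBr.pt_left]
  have h := congr($(Scheme.ΓSpecIso_inv_naturality (CommRingCat.ofHom φ.toRingHom)).hom f)
  simp only [CommRingCat.comp_apply] at h ⊢
  congr 1
  exact h.symm

theorem val_pt {B : Type u} [CommRing B] [Algebra k B] (φ : A →ₐ[k] B) (f : A) :
    val (CoactBr.pt φ) f = (Scheme.ΓSpecIso (CommRingCat.of B)).inv (φ f) := by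
  have h := congr($(Scheme.ΓSpecIso_inv_naturality (CommRingCat.ofHom φ.toRingHom)).hom f)
  simp only [CommRingCat.comp_apply] at h
  exact h.symm

theorem exists_pair {T : Over (Spec (CommRingCat.of k))} (x g : T ⟶ CoactBr.sp k A) :
    ∃ t : T ⟶ CoactBr.sp k (A ⊗[k] A),
      t ≫ CoactBr.pt (Algebra.TensorProduct.includeLeft : A →ₐ[k] A ⊗[k] A) = x ∧
        t ≫ CoactBr.pt (Algebra.TensorProduct.includeRight : A →ₐ[k] A ⊗[k] A) = g := by
  let p₁ := CoactBr.pt (Algebra.TensorProduct.includeLeft : A →ₐ[k] A ⊗[k] A)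
  let p₂ := CoactBr.pt (Algebra.TensorProduct.includeRight : A →ₐ[k] A ⊗[k] A)
  let μ₀ : CoactBr.sp k A ⊗ CoactBr.sp k A ⟶ CoactBr.sp k (A ⊗[k] A) := Functor.LaxMonoidal.μ (algSpec (CommRingCat.of k)) (op (CommAlgCat.of k A))
    (op (CommAlgCat.of k A))
  have e : lift p₁ p₂ ≫ μ₀ = 𝟙 _ := by
    refine (CoactBr.lift_pt_pt _ _).trans ?_
    refine (congrArg CoactBr.pt ?_).trans CoactBr.pt_id
    exact Algebra.TensorProduct.ext' fun a b => by simp
  have e' : μ₀ ≫ lift p₁ p₂ = 𝟙 _ := by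
    let δ₀ : CoactBr.sp k (A ⊗[k] A) ⟶ CoactBr.sp k A ⊗ CoactBr.sp k A :=
      Functor.OplaxMonoidal.δ (algSpec (CommRingCat.of k)) (op (CommAlgCat.of k A))
        (op (CommAlgCat.of k A))
    have h2 : μ₀ ≫ δ₀ = 𝟙 _ := Functor.Monoidal.μ_δ (algSpec (CommRingCat.of k)) _ _
    have h1 : lift p₁ p₂ = δ₀ := by
      calc lift p₁ p₂ = lift p₁ p₂ ≫ μ₀ ≫ δ₀ := by rw [h2, Category.comp_id]
        _ = δ₀ := by rw [← Category.assoc, e, Category.id_comp]
    rw [h1, h2]
  refine ⟨lift x g ≫ μ₀, ?_, ?_⟩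
  · have : μ₀ ≫ p₁ = fst _ _ := by
      rw [← lift_fst p₁ p₂, ← Category.assoc, e', Category.id_comp]
    show (lift x g ≫ μ₀) ≫ p₁ = x
    rw [Category.assoc, this, lift_fst]
  · have : μ₀ ≫ p₂ = snd _ _ := by
      rw [← lift_snd p₁ p₂, ← Category.assoc, e', Category.id_comp]
    show (lift x g ≫ μ₀) ≫ p₂ = g
    rw [Category.assoc, this, lift_snd]

/-- A function is a class function exactly when it is invariant at the universal pair of points. -/
theorem class_iff (f : A) :
    (∀ (T : Over (Spec (CommRingCat.of k))) (x g : T ⟶ CoactBr.sp k A),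
        (x * g * x⁻¹).left.appTop ((Scheme.ΓSpecIso (CommRingCat.of A)).inv f) =
          g.left.appTop ((Scheme.ΓSpecIso (CommRingCat.of A)).inv f)) ↔
      conjHom (k := k) f = (1 : A) ⊗ₜ[k] f := by
  constructor
  · intro h
    have h2 := h _ (CoactBr.pt (Algebra.TensorProduct.includeLeft : A →ₐ[k] A ⊗[k] A))
      (CoactBr.pt (Algebra.TensorProduct.includeRight : A →ₐ[k] A ⊗[k] A))
    rw [← pt_conjHom] at h2
    have h3 : (Scheme.ΓSpecIso (CommRingCat.of (A ⊗[k] A))).inv (conjHom (k := k) f) =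
        (Scheme.ΓSpecIso (CommRingCat.of (A ⊗[k] A))).inv ((1 : A) ⊗ₜ[k] f) :=
      (val_pt (conjHom (k := k) (A := A)) f).symm.trans
        (h2.trans (val_pt (Algebra.TensorProduct.includeRight : A →ₐ[k] A ⊗[k] A) f))
    exact (Scheme.ΓSpecIso (CommRingCat.of (A ⊗[k] A))).commRingCatIsoToRingEquiv.symm.injective h3
  · intro h T x g
    obtain ⟨t, hfst, hsnd⟩ := exists_pair x g
    have hc : t ≫ CoactBr.pt (conjHom (k := k) (A := A)) = x * g * x⁻¹ := by
      rw [pt_conjHom]
      refine (MonObj.comp_mul _ _ _).trans ?_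
      refine congrArg₂ (· * ·) ((MonObj.comp_mul _ _ _).trans (congrArg₂ (· * ·) hfst hsnd))
        ((GrpObj.comp_inv _ _).trans (congrArg (·⁻¹) hfst))
    show val (x * g * x⁻¹) f = val g f
    rw [← hc, ← hsnd, val_comp_pt, val_comp_pt, h]
    rfl

end Groth.Agent.ClassFn
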