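import Groth.Agent.CharRing.Chi
import Mathlib.LinearAlgebra.Eigenspace.Triangularizable
import Mathlib.LinearAlgebra.Matrix.Basis
import Mathlib.LinearAlgebra.Matrix.ToLin

/-!
# Traces against commuting scalar matrices are combinations of traces of corepresentations
-/

universe u v
open scoped TensorProduct
open Matrix

namespace Groth.Agent.ClassFn

variable {k : Type u} [Field k] [IsAlgClosed k] {A : Type v} [CommRing A] [Bialgebra k A]

theorem isCorep_conj {n m : Type} [Fintype n] [DecidableEq n] [Fintype m] [DecidableEq m]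
    {M : Matrix n n A} (hM : Comod.IsCorep (k := k) M) (R : Matrix m n k) (P : Matrix n m k)
    (hPR : P * R = 1) (hRP : R * P = 1) :
    Comod.IsCorep (k := k) (R.map (algebraMap k A) * M * P.map (algebraMap k A)) := by
  constructor
  · have key : ∀ {B : Type v} [CommRing B] [Algebra k B] (X G : Matrix n n B),
        (R.map (algebraMap k B) : Matrix m n B) * (X * G) * (P.map (algebraMap k B) : Matrix n m B) =
        (((R.map (algebraMap k B) : Matrix m n B) * X * (P.map (algebraMap k B) : Matrix n m B)) : Matrix m m B) *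
          ((R.map (algebraMap k B) : Matrix m n B) * G * (P.map (algebraMap k B) : Matrix n m B)) := by
      intro B _ _ X G
      have hpr : (P.map (algebraMap k B) : Matrix n m B) * R.map (algebraMap k B) = 1 := by
        rw [← Matrix.map_mul, hPR, Matrix.map_one _ (map_zero _) (map_one _)]
      simp only [Matrix.mul_assoc]
      rw [← Matrix.mul_assoc (P.map _) (R.map _), hpr, Matrix.one_mul]
    have hmap : ∀ {B : Type v} [CommRing B] [Algebra k B] (f : A →ₐ[k] B),
        (R.map (algebraMap k A) * M * P.map (algebraMap k A)).map f =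
          R.map (algebraMap k B) * M.map f * P.map (algebraMap k B) := by
      intro B _ _ f
      rw [Matrix.map_mul, Matrix.map_mul, Matrix.map_map, Matrix.map_map]
      have : (f : A → B) ∘ algebraMap k A = algebraMap k B := funext f.commutes
      rw [this]
    rw [hmap, hmap, hmap, hM.map_comul]
    exact key (B := TensorProduct k A A) _ _
  · rw [Matrix.map_mul, Matrix.map_mul, Matrix.map_map, Matrix.map_map, hM.map_counit]
    have : (Bialgebra.counitAlgHom k A : A → k) ∘ algebraMap k A = id :=
      funext (Bialgebra.counitAlgHom k A).commutes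
    rw [this, Matrix.map_id, Matrix.map_id, Matrix.mul_one, hRP]

theorem blocks_of_corep {a c : Type} [Fintype a] [DecidableEq a] [Fintype c] [DecidableEq c]
    {M11 : Matrix a a A} {M12 : Matrix a c A} {M22 : Matrix c c A}
    (hM : Comod.IsCorep (k := k) (fromBlocks M11 M12 0 M22)) :
    Comod.IsCorep (k := k) M11 ∧ Comod.IsCorep (k := k) M22 := by
  have h1 := hM.map_comul
  have h2 := hM.map_counit
  simp only [fromBlocks_map, Matrix.map_zero _ (map_zero _), fromBlocks_multiply, Matrix.mul_zero,
    Matrix.zero_mul, add_zero, zero_add, fromBlocks_inj] at h1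
  rw [fromBlocks_map, ← fromBlocks_one, fromBlocks_inj] at h2
  exact ⟨⟨h1.1, h2.1⟩, ⟨h1.2.2.2, h2.2.2.2⟩⟩

theorem trace_mem_span {S : Submodule k A}
    (hS : ∀ (n : Type) [Fintype n] [DecidableEq n] (M : Matrix n n A),
      Comod.IsCorep (k := k) M → M.trace ∈ S)
    (N : ℕ) {n : Type} [Fintype n] [DecidableEq n] (hN : Fintype.card n = N)
    {M : Matrix n n A} (hM : Comod.IsCorep (k := k) M) {Q : Matrix n n k}
    (hQ : Comod.sc Q * M = M * Comod.sc Q) : (Comod.sc Q * M).trace ∈ S := by
  induction N using Nat.strong_induction_on generalizing n with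
  | _ N ih =>
  rcases isEmpty_or_nonempty n with hn | hn
  · simp [Matrix.trace]
  obtain ⟨r, hr⟩ := Module.End.exists_eigenvalue (Matrix.toLin' Q)
  let W := Module.End.eigenspace (Matrix.toLin' Q) r
  obtain ⟨W', hc⟩ := W.exists_isCompl
  let b : Module.Basis (Fin (Module.finrank k W) ⊕ Fin (Module.finrank k W')) k (n → k) :=
    ((Module.finBasis k W).prod (Module.finBasis k W')).map (W.prodEquivOfIsCompl W' hc)
  have hcard : Module.finrank k W' < N := by
    have h1 : Module.finrank k W + Module.finrank k W' = N := by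
      rw [Submodule.finrank_add_eq_of_isCompl hc, Module.finrank_fintype_fun_eq_card, hN]
    have h2 : 0 < Module.finrank k W := by
      have : Nontrivial W := Submodule.nontrivial_iff_ne_bot.mpr hr
      exact Module.finrank_pos
    omega
  let P : Matrix n (Fin (Module.finrank k W) ⊕ Fin (Module.finrank k W')) k := (Pi.basisFun k n).toMatrix b
  let R : Matrix (Fin (Module.finrank k W) ⊕ Fin (Module.finrank k W')) n k := b.toMatrix (Pi.basisFun k n)
  have hPR : P * R = 1 := (Pi.basisFun k n).toMatrix_mul_toMatrix_flip b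
  have hRP : R * P = 1 := b.toMatrix_mul_toMatrix_flip (Pi.basisFun k n)
  have hPcol : ∀ j, P.col j = b j := fun j => funext fun i => by
    simp [P, Module.Basis.toMatrix_apply]
  have hinl : ∀ j, b (Sum.inl j) ∈ W := fun j => by
    simp [b, Module.Basis.prod_apply_inl_fst, Module.Basis.prod_apply_inl_snd]
  let B : Matrix (Fin (Module.finrank k W) ⊕ Fin (Module.finrank k W')) (Fin (Module.finrank k W) ⊕ Fin (Module.finrank k W')) k := R * (Q - r • 1) * P
  have hBv : ∀ v : (Fin (Module.finrank k W) ⊕ Fin (Module.finrank k W')) → k, P *ᵥ (B *ᵥ v) = (Q - r • 1) *ᵥ (P *ᵥ v) := fun v => by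
    simp only [B, Matrix.mulVec_mulVec, ← Matrix.mul_assoc, hPR, Matrix.one_mul]
  have hP0 : ∀ v : (Fin (Module.finrank k W) ⊕ Fin (Module.finrank k W')) → k, P *ᵥ v = 0 → v = 0 := fun v hv => by
    have := congrArg (R *ᵥ ·) hv
    simpa [Matrix.mulVec_mulVec, hRP] using this
  have hkerW : ∀ w : n → k, (Q - r • 1) *ᵥ w = 0 ↔ w ∈ W := fun w => by
    rw [Module.End.mem_eigenspace_iff, Matrix.toLin'_apply, Matrix.sub_mulVec, Matrix.smul_mulVec,
      Matrix.one_mulVec, sub_eq_zero]
  have hBinl : ∀ i j, B i (Sum.inl j) = 0 := by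
    intro i j
    have h : B *ᵥ Pi.single (Sum.inl j) 1 = 0 := hP0 _ (by
      rw [hBv, Matrix.mulVec_single_one, hPcol]
      exact (hkerW _).mpr (hinl j))
    simpa [Matrix.mulVec_single_one] using congrFun h i
  let B' : Matrix (Fin (Module.finrank k W) ⊕ Fin (Module.finrank k W')) (Fin (Module.finrank k W')) k := B.submatrix id Sum.inr
  have hsum : ∀ v : Fin (Module.finrank k W') → k,
      P *ᵥ (Sum.elim 0 v) = ((Module.finBasis k W').equivFun.symm v : W') := by
    intro v
    have h : ∀ e, P *ᵥ e = b.equivFun.symm e := fun e => by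
      ext i
      simp [Matrix.mulVec, dotProduct, P, Module.Basis.equivFun_symm_apply, Module.Basis.toMatrix_apply,
        Finset.sum_apply, mul_comm]
    simp [h, Module.Basis.equivFun_symm_apply, Fintype.sum_sum_type, b,
      Module.Basis.prod_apply_inr_fst, Module.Basis.prod_apply_inr_snd]
  have hinj : Function.Injective B'.mulVecLin := by
    rw [← LinearMap.ker_eq_bot, Submodule.eq_bot_iff]
    intro v hv
    have hv' : B *ᵥ Sum.elim 0 v = 0 := by
      rw [← LinearMap.mem_ker.mp hv]
      ext i
      simp [Matrix.mulVec, dotProduct, B', Fintype.sum_sum_type]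
    have h1 : P *ᵥ Sum.elim 0 v ∈ W := (hkerW _).mp (by rw [← hBv, hv', Matrix.mulVec_zero])
    rw [hsum] at h1
    have h2 := Submodule.disjoint_def.mp hc.disjoint _ h1 (Subtype.coe_prop _)
    rw [Submodule.coe_eq_zero, LinearEquiv.map_eq_zero_iff] at h2
    exact h2
  obtain ⟨g, hg⟩ := LinearMap.exists_leftInverse_of_injective B'.mulVecLin
    (LinearMap.ker_eq_bot.mpr hinj)
  have hL : LinearMap.toMatrix' g * B' = 1 := by
    have h := congrArg LinearMap.toMatrix' hg
    rwa [LinearMap.toMatrix'_comp, LinearMap.toMatrix'_id, ← Matrix.toLin'_apply',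
      LinearMap.toMatrix'_toLin'] at h
  let M' : Matrix (Fin (Module.finrank k W) ⊕ Fin (Module.finrank k W')) (Fin (Module.finrank k W) ⊕ Fin (Module.finrank k W')) A := R.map (algebraMap k A) * M * P.map (algebraMap k A)
  have hM' : Comod.IsCorep (k := k) M' := isCorep_conj hM R P hPR hRP
  have hPRA : P.map (algebraMap k A) * R.map (algebraMap k A) = 1 := by
    rw [← Matrix.map_mul, hPR, Matrix.map_one _ (map_zero _) (map_one _)]
  have hQr : Comod.sc (Q - r • 1) * M = M * Comod.sc (Q - r • 1) := by
    have h1 : (Comod.sc (Q - r • (1 : Matrix n n k)) : Matrix n n A) = Comod.sc Q - r • 1 := by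
      ext i j
      by_cases h : i = j
      · simp [Comod.sc, Matrix.one_apply, h, Algebra.algebraMap_eq_smul_one, sub_smul]
      · simp [Comod.sc, Matrix.one_apply, h]
    rw [h1, Matrix.sub_mul, Matrix.mul_sub, hQ, Matrix.smul_mul, Matrix.mul_smul, Matrix.one_mul,
      Matrix.mul_one]
  have hBM : B.map (algebraMap k A) * M' = M' * B.map (algebraMap k A) := by
    simp only [B, M', Matrix.map_mul, Matrix.mul_assoc]
    rw [← Matrix.mul_assoc (P.map _) (R.map _), hPRA, Matrix.one_mul,
      ← Matrix.mul_assoc ((Q - r • 1).map _) M, hQr]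
    conv_rhs => rw [← Matrix.mul_assoc (P.map _) (R.map _), hPRA, Matrix.one_mul]
    simp only [Matrix.mul_assoc]
  have htr : (Comod.sc Q * M).trace = (B.map (algebraMap k A) * M').trace + r • M'.trace := by
    have e1 : (B.map (algebraMap k A) * M').trace = (Comod.sc (Q - r • 1) * M).trace := by
      simp only [B, M', Matrix.map_mul, Matrix.mul_assoc]
      rw [← Matrix.mul_assoc (P.map _) (R.map _), hPRA, Matrix.one_mul, Matrix.trace_mul_comm]
      simp only [Matrix.mul_assoc, hPRA, Matrix.mul_one]
    have e2 : M'.trace = M.trace := by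
      simp only [M']
      rw [Matrix.trace_mul_comm, ← Matrix.mul_assoc, hPRA, Matrix.one_mul]
    have e3 : (Comod.sc Q : Matrix n n A) = Comod.sc (Q - r • 1) + r • 1 := by
      ext i j
      by_cases h : i = j <;> simp [Comod.sc, Matrix.one_apply, h, Algebra.algebraMap_eq_smul_one, sub_smul]
    rw [e1, e2, e3, Matrix.add_mul, Matrix.trace_add, Matrix.smul_mul, Matrix.one_mul,
      Matrix.trace_smul]
  -- the block decomposition
  let B1 := B.toBlocks₁₂
  let B2 := B.toBlocks₂₂
  have hBblk : B = fromBlocks 0 B1 0 B2 := by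
    conv_lhs => rw [← fromBlocks_toBlocks B]
    congr 1 <;> ext i j <;> exact hBinl _ _
  have hblk := hBM
  rw [hBblk, ← fromBlocks_toBlocks M', fromBlocks_map] at hblk
  simp only [Matrix.map_zero _ (map_zero _), fromBlocks_multiply, Matrix.mul_zero, Matrix.zero_mul,
    add_zero, zero_add, fromBlocks_inj] at hblk
  obtain ⟨h11, -, h21, h22⟩ := hblk
  have hB' : B'.map (algebraMap k A) * M'.toBlocks₂₁ = 0 := by
    ext i j
    rcases i with i | i
    · have := congrFun (congrFun h11 i) j
      simpa [Matrix.mul_apply, B', B1, Matrix.toBlocks₁₂] using this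
    · have := congrFun (congrFun h21 i) j
      simpa [Matrix.mul_apply, B', B2, Matrix.toBlocks₂₂] using this
  have h0 : M'.toBlocks₂₁ = 0 := by
    have := congrArg ((LinearMap.toMatrix' g).map (algebraMap k A) * ·) hB'
    rwa [Matrix.mul_zero, ← Matrix.mul_assoc, ← Matrix.map_mul, hL,
      Matrix.map_one _ (map_zero _) (map_one _), Matrix.one_mul] at this
  rw [h0, Matrix.zero_mul, zero_add] at h22
  have hblocks : M' = fromBlocks M'.toBlocks₁₁ M'.toBlocks₁₂ 0 M'.toBlocks₂₂ := by
    rw [← h0, fromBlocks_toBlocks]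
  obtain ⟨-, hc22⟩ := blocks_of_corep (hblocks ▸ hM')
  have htrB : (B.map (algebraMap k A) * M').trace =
      (B2.map (algebraMap k A) * M'.toBlocks₂₂).trace := by
    rw [hBblk]
    conv_lhs => rw [hblocks]
    simp [fromBlocks_map, fromBlocks_multiply, Matrix.map_zero _ (map_zero _), Matrix.trace,
      Fintype.sum_sum_type]
  rw [htr, htrB]
  refine S.add_mem ?_ (S.smul_mem _ (hS (Fin (Module.finrank k W) ⊕ Fin (Module.finrank k W')) M' hM'))
  exact ih _ hcard (n := Fin (Module.finrank k W')) (Fintype.card_fin _) hc22 h22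

end Groth.Agent.ClassFn
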